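import Cfsg.Agent.Lib.H9.HN.TCS5.Chk
set_option Elab.async false
set_option autoImplicit false
set_option maxRecDepth 100000
set_option linter.all false
namespace H9.HN.TCS5
open H35.TC
theorem r_0 : allB chkP 10 0 = true := by decide +kernel
theorem blk_0 : ∀ u, 0 ≤ u → u < 1024 → chkP u = true := by
  intro u h0 hu
  rcases Nat.lt_or_ge u 1024 with h | h
  · exact allB_spec _ _ _ r_0 u (by omega) (by omega)
  clear h0
  rename' h => h0
  omega
end H9.HN.TCS5
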