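import Cfsg.Agent.Lib.H9.HN.TCS5.Data
import Cfsg.Agent.Lib.H35.TC
set_option autoImplicit false
set_option maxRecDepth 100000
set_option linter.all false
namespace H9.HN.TCS5
open H35.TC
/-- letters -/
inductive Lt | x | xi | t | ti | z
  deriving DecidableEq
/-- inverse letter -/
def inv : Lt → Lt
  | .x => .xi
  | .xi => .x
  | .t => .ti
  | .ti => .t
  | .z => .z
/-- table functions -/
noncomputable def T : Lt → ℕ → ℕ
  | .x => T_x
  | .xi => T_xi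
  | .t => T_t
  | .ti => T_ti
  | .z => T_z
/-- decoding of letter codes -/
def lt : ℕ → Lt
  | 0 => .x
  | 1 => .xi
  | 2 => .t
  | 3 => .ti
  | _ => .z
/-- Coxeter matrix (0: no relation) -/
def mm : Lt → Lt → ℕ
  | .z, .z => 1
  | _, _ => 0
/-- extra relators `w ^ n` -/
def extra : List (List Lt × ℕ) := [
  ([.x], 4),
  ([.z, .x], 2),
  ([.t], 5),
  ([.xi, .t, .x, .t, .t], 1),
  ([.z, .t], 3),
  ([.x, .xi], 1),
  ([.xi, .x], 1),
  ([.t, .ti], 1),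
  ([.ti, .t], 1)]
/-- relators -/
def rels : List (List Lt) := mkRels [(.z, .z)] mm extra
/-- subgroup words -/
def subs : List (List Lt) := [
  ]
noncomputable def disp_x (j u : ℕ) : Bool :=
  Bool.rec (motive := fun _ => Bool) (Bool.rec (motive := fun _ => Bool) (lF1 T_xi M (Nat.sub (T_x u) (Nat.mod (T_x u) M)) (Nat.mod (T_x u) M) u) (lDef P (nat_lit 0) (Nat.mod (T_x u) M) u) (Nat.ble (nat_lit 1) j)) (Bool.rec (motive := fun _ => Bool) (Bool.rec (motive := fun _ => Bool) (lDef P (nat_lit 1) u (Nat.mod (T_x u) M)) (lF3 T_z T_x T_z M (Nat.sub (T_x u) (Nat.mod (T_x u) M)) (Nat.mod (T_x u) M) u) (Nat.ble (nat_lit 3) j)) (Bool.rec (motive := fun _ => Bool) (lF [T_ti, T_ti, T_xi, T_ti] M (Nat.sub (T_x u) (Nat.mod (T_x u) M)) (Nat.mod (T_x u) M) u) (Bool.rec (motive := fun _ => Bool) (lF3 T_x T_x T_x M (Nat.sub (T_x u) (Nat.mod (T_x u) M)) (Nat.mod (T_x u) M) u) (lF [T_t, T_t, T_xi,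 T_t] M (Nat.sub (T_x u) (Nat.mod (T_x u) M)) (Nat.mod (T_x u) M) u) (Nat.ble (nat_lit 6) j)) (Nat.ble (nat_lit 5) j)) (Nat.ble (nat_lit 4) j)) (Nat.ble (nat_lit 2) j)
noncomputable def chk_x (j u : ℕ) : Bool :=
  Bool.rec (motive := fun _ => Bool) (disp_x j u) (Nat.ble (Nat.succ (MG u)) A) (Nat.ble A (T_x u))
noncomputable def dp_xi_0 (j u : ℕ) : Bool :=
  Bool.rec (motive := fun _ => Bool) (lF [T_t, T_x, T_t, T_t] M (Nat.sub (T_xi u) (Nat.mod (T_xi u) M)) (Nat.mod (T_xi u) M) u) (lF3 T_xi T_xi T_xi M (Nat.sub (T_xi u) (Nat.mod (T_xi u) M)) (Nat.mod (T_xi u) M) u) (Nat.ble (nat_lit 6) j)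
noncomputable def disp_xi (j u : ℕ) : Bool :=
  Bool.rec (motive := fun _ => Bool) (Bool.rec (motive := fun _ => Bool) (lF1 T_x M (Nat.sub (T_xi u) (Nat.mod (T_xi u) M)) (Nat.mod (T_xi u) M) u) (lF [T_ti, T_x, T_ti, T_ti] M (Nat.sub (T_xi u) (Nat.mod (T_xi u) M)) (Nat.mod (T_xi u) M) u) (Nat.ble (nat_lit 1) j)) (Bool.rec (motive := fun _ => Bool) (Bool.rec (motive := fun _ => Bool) (lDef P (nat_lit 1) (Nat.mod (T_xi u) M) u) (lDef P (nat_lit 0) u (Nat.mod (T_xi u) M)) (Nat.ble (nat_lit 3) j)) (Bool.rec (motive := fun _ => Bool) (lF3 T_z T_xi T_z M (Nat.sub (T_xi u) (Nat.mod (T_xi u) M)) (Nat.mod (T_xi u) M) u) (dp_xi_0 j u) (Nat.ble (nat_lit 5) j)) (Nat.ble (nat_lit 4) j)) (Nat.ble (nat_lit 2) j)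
noncomputable def chk_xi (j u : ℕ) : Bool :=
  Bool.rec (motive := fun _ => Bool) (disp_xi j u) (Nat.ble (Nat.succ (MG u)) A) (Nat.ble A (T_xi u))
noncomputable def dp_t_0 (j u : ℕ) : Bool :=
  Bool.rec (motive := fun _ => Bool) (lF [T_x, T_t, T_t, T_xi] M (Nat.sub (T_t u) (Nat.mod (T_t u) M)) (Nat.mod (T_t u) M) u) (lF [T_xi, T_t, T_x, T_t] M (Nat.sub (T_t u) (Nat.mod (T_t u) M)) (Nat.mod (T_t u) M) u) (Nat.ble (nat_lit 5) j)
noncomputable def dp_t_1 (j u : ℕ) : Bool :=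
  Bool.rec (motive := fun _ => Bool) (lF [T_t, T_xi, T_t, T_x] M (Nat.sub (T_t u) (Nat.mod (T_t u) M)) (Nat.mod (T_t u) M) u) (dp_t_0 j u) (Nat.ble (nat_lit 4) j)
noncomputable def disp_t (j u : ℕ) : Bool :=
  Bool.rec (motive := fun _ => Bool) (Bool.rec (motive := fun _ => Bool) (lF1 T_ti M (Nat.sub (T_t u) (Nat.mod (T_t u) M)) (Nat.mod (T_t u) M) u) (lDef P (nat_lit 2) (Nat.mod (T_t u) M) u) (Nat.ble (nat_lit 1) j)) (Bool.rec (motive := fun _ => Bool) (lDef P (nat_lit 3) u (Nat.mod (T_t u) M)) (dp_t_1 j u) (Nat.ble (nat_lit 3) j)) (Nat.ble (nat_lit 2) j)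
noncomputable def chk_t (j u : ℕ) : Bool :=
  Bool.rec (motive := fun _ => Bool) (disp_t j u) (Nat.ble (Nat.succ (MG u)) A) (Nat.ble A (T_t u))
noncomputable def dp_ti_0 (j u : ℕ) : Bool :=
  Bool.rec (motive := fun _ => Bool) (lF [T_xi, T_ti, T_x, T_ti] M (Nat.sub (T_ti u) (Nat.mod (T_ti u) M)) (Nat.mod (T_ti u) M) u) (lF [T_z, T_ti, T_z, T_ti, T_z] M (Nat.sub (T_ti u) (Nat.mod (T_ti u) M)) (Nat.mod (T_ti u) M) u) (Nat.ble (nat_lit 7) j)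
noncomputable def dp_ti_1 (j u : ℕ) : Bool :=
  Bool.rec (motive := fun _ => Bool) (lF [T_ti, T_xi, T_ti, T_x] M (Nat.sub (T_ti u) (Nat.mod (T_ti u) M)) (Nat.mod (T_ti u) M) u) (dp_ti_0 j u) (Nat.ble (nat_lit 6) j)
noncomputable def disp_ti (j u : ℕ) : Bool :=
  Bool.rec (motive := fun _ => Bool) (Bool.rec (motive := fun _ => Bool) (lDef P (nat_lit 3) (Nat.mod (T_ti u) M) u) (lDef P (nat_lit 2) u (Nat.mod (T_ti u) M)) (Nat.ble (nat_lit 1) j)) (Bool.rec (motive := fun _ => Bool) (Bool.rec (motive := fun _ => Bool) (lF [T_x, T_ti, T_ti, T_xi] M (Nat.sub (T_ti u) (Nat.mod (T_ti u) M)) (Nat.mod (T_ti u) M) u) (lF [T_ti, T_ti, T_ti, T_ti] M (Nat.sub (T_ti u) (Nat.mod (T_ti u) M)) (Nat.mod (T_ti u) M) u) (Nat.ble (nat_lit 3) j)) (Bool.rec (motive := fun _ => Bool) (lF1 T_t M (Nat.sub (T_ti u) (Nat.mod (T_ti u) M)) (Nat.mod (T_ti u) M) u) (dp_ti_1 j u) (Nat.ble (nat_lit 5) j)) (Nat.ble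 (nat_lit 4) j)) (Nat.ble (nat_lit 2) j)
noncomputable def chk_ti (j u : ℕ) : Bool :=
  Bool.rec (motive := fun _ => Bool) (disp_ti j u) (Nat.ble (Nat.succ (MG u)) A) (Nat.ble A (T_ti u))
noncomputable def disp_z (j u : ℕ) : Bool :=
  Bool.rec (motive := fun _ => Bool) (Bool.rec (motive := fun _ => Bool) (lF1 T_z M (Nat.sub (T_z u) (Nat.mod (T_z u) M)) (Nat.mod (T_z u) M) u) (lDef P (nat_lit 4) (Nat.mod (T_z u) M) u) (Nat.ble (nat_lit 1) j)) (Bool.rec (motive := fun _ => Bool) (Bool.rec (motive := fun _ => Bool) (lDef P (nat_lit 4) u (Nat.mod (T_z u) M)) (lF3 T_xi T_z T_xi M (Nat.sub (T_z u) (Nat.mod (T_z u) M)) (Nat.mod (T_z u) M) u) (Nat.ble (nat_lit 3) j)) (Bool.rec (motive := fun _ => Bool) (lF [T_t, T_z, T_t, T_z, T_t] M (Nat.sub (T_z u) (Nat.mod (T_z u) M)) (Nat.mod (T_z u) M) u) (Bool.rec (motive := fun _ => Bool) (lF [T_ti, T_z, T_ti, T_z, T_ti] M (Nat.sub (T_z u) (Nat.mod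 (T_z u) M)) (Nat.mod (T_z u) M) u) (lF3 T_x T_z T_x M (Nat.sub (T_z u) (Nat.mod (T_z u) M)) (Nat.mod (T_z u) M) u) (Nat.ble (nat_lit 6) j)) (Nat.ble (nat_lit 5) j)) (Nat.ble (nat_lit 4) j)) (Nat.ble (nat_lit 2) j)
noncomputable def chk_z (j u : ℕ) : Bool :=
  Bool.rec (motive := fun _ => Bool) (disp_z j u) (Nat.ble (Nat.succ (MG u)) A) (Nat.ble A (T_z u))
noncomputable def chkM (u : ℕ) : Bool := Nat.ble A (MG u)
noncomputable def chkN (u : ℕ) : Bool :=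
  band (chk_x (Nat.land (Nat.shiftRight (RS u) (nat_lit 0)) (nat_lit 15)) u) (band (chk_xi (Nat.land (Nat.shiftRight (RS u) (nat_lit 4)) (nat_lit 15)) u) (band (chk_t (Nat.land (Nat.shiftRight (RS u) (nat_lit 8)) (nat_lit 15)) u) (band (chk_ti (Nat.land (Nat.shiftRight (RS u) (nat_lit 12)) (nat_lit 15)) u) (band (chk_z (Nat.land (Nat.shiftRight (RS u) (nat_lit 16)) (nat_lit 15)) u) (chkM u)))))
noncomputable def chkP (u : ℕ) : Bool := Bool.rec (motive := fun _ => Bool) (chkN u) true (Nat.ble M u)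
noncomputable def liveP (u : ℕ) : Bool := Bool.rec (motive := fun _ => Bool) (Nat.ble A (MG u)) false (Nat.ble M u)
end H9.HN.TCS5
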